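import Mathlib

/-!
Normalizers that split over the subgroup of a class in the centralizer, and their transport.
-/

set_option autoImplicit false

namespace CfsgLib.Fi23Cent

variable {G H : Type*} [Group G] [Group H]

/-- The group generated by the members of `D` in the centralizer of `X`. -/
def classCent (D : Set G) (X : Subgroup G) : Subgroup G :=
  Subgroup.closure (D ∩ (Subgroup.centralizer (X : Set G) : Set G))

/-- The normalizer of `X` is `F × K` for a subgroup `F` of order `f` containing `X` self-centralizing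
in it and `K` the symmetric group of degree `n` spanned by the members of `D` centralizing `X`. -/
def SplitNorm (D : Set G) (X : Subgroup G) (f n : ℕ) : Prop :=
  ∃ F : Subgroup G, Nat.card F = f ∧ X ≤ F ∧ F ⊓ Subgroup.centralizer (X : Set G) = X ∧
    F ⊓ classCent D X = ⊥ ∧ (∀ x ∈ F, ∀ y ∈ classCent D X, x * y = y * x) ∧
    F ⊔ classCent D X = Subgroup.normalizer (X : Set G) ∧ Nonempty (classCent D X ≃* Equiv.Perm (Fin n))

theorem map_centralizer (e : G ≃* H) (X : Subgroup G) :
    (Subgroup.centralizer (X : Set G)).map e.toMonoidHom =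
      Subgroup.centralizer ((X.map e.toMonoidHom : Subgroup H) : Set H) := by
  ext h
  rw [Subgroup.mem_map_equiv, Subgroup.mem_centralizer_iff, Subgroup.mem_centralizer_iff]
  constructor
  · rintro h' _ ⟨x, hx, rfl⟩
    have := congrArg e (h' x hx)
    simpa using this
  · intro h' x hx
    apply e.injective
    simpa using h' (e x) (Subgroup.mem_map_of_mem _ hx)

theorem map_classCent (e : G ≃* H) (D : Set G) (X : Subgroup G) :
    (classCent D X).map e.toMonoidHom = classCent (e '' D) (X.map e.toMonoidHom) := by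
  rw [classCent, classCent, MonoidHom.map_closure, ← map_centralizer, Subgroup.coe_map,
    MulEquiv.coe_toMonoidHom, Set.image_inter e.injective]

theorem SplitNorm.map (e : G ≃* H) {D : Set G} {X : Subgroup G} {f n : ℕ} (h : SplitNorm D X f n) :
    SplitNorm (e '' D) (X.map e.toMonoidHom) f n := by
  obtain ⟨F, h1, h2, h3, h4, h5, h6, ⟨ψ⟩⟩ := h
  refine ⟨F.map e.toMonoidHom, by rw [Subgroup.card_map_of_injective e.injective, h1],
    Subgroup.map_mono h2, ?_, ?_, ?_, ?_, ?_⟩
  · rw [← map_centralizer, ← Subgroup.map_inf _ _ _ e.injective, h3]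
  · rw [← map_classCent, ← Subgroup.map_inf _ _ _ e.injective, h4, Subgroup.map_bot]
  · rw [← map_classCent]
    rintro _ ⟨x, hx, rfl⟩ _ ⟨y, hy, rfl⟩
    rw [← map_mul, h5 x hx y hy, map_mul]
  · rw [← map_classCent, ← Subgroup.map_sup, h6, Subgroup.map_equiv_normalizer_eq]
  · rw [← map_classCent]
    exact ⟨(Subgroup.equivMapOfInjective _ e.toMonoidHom e.injective).symm.trans ψ⟩

/-- If all subgroups of order `p` are conjugate and one has a split normalizer, all have. -/
theorem SplitNorm.all {D : Set G} (hD : ∀ g : G, MulAut.conj g '' D = D) {p f n : ℕ} {X₀ : Subgroup G}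
    (h : SplitNorm D X₀ f n) (hX₀ : Nat.card X₀ = p)
    (hconj : ∀ X Y : Subgroup G, Nat.card X = p → Nat.card Y = p →
      ∃ g : G, X.map (MulAut.conj g).toMonoidHom = Y)
    (X : Subgroup G) (hX : Nat.card X = p) : SplitNorm D X f n := by
  obtain ⟨g, hg⟩ := hconj X₀ X hX₀ hX
  have := h.map (MulAut.conj g)
  rwa [hD, hg] at this

/-- The conjugacy and split normalizers pass along an isomorphism. -/
theorem split_transport (e : G ≃* H) {D : Set G} {D' : Set H} (he : e '' D = D') {p f n : ℕ}
    (hconj : ∀ X Y : Subgroup G, Nat.card X = p → Nat.card Y = p →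
      ∃ g : G, X.map (MulAut.conj g).toMonoidHom = Y)
    (hall : ∀ X : Subgroup G, Nat.card X = p → SplitNorm D X f n) :
    (∀ X Y : Subgroup H, Nat.card X = p → Nat.card Y = p →
      ∃ g : H, X.map (MulAut.conj g).toMonoidHom = Y) ∧
      ∀ X : Subgroup H, Nat.card X = p → SplitNorm D' X f n := by
  have back : ∀ X : Subgroup H, Nat.card X = p →
      Nat.card (X.map e.symm.toMonoidHom) = p ∧ (X.map e.symm.toMonoidHom).map e.toMonoidHom = X := by
    intro X hX
    refine ⟨by rw [Subgroup.card_map_of_injective e.symm.injective, hX], ?_⟩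
    rw [Subgroup.map_map]
    convert Subgroup.map_id X
    ext y
    simp
  refine ⟨fun X Y hX hY => ?_, fun X hX => ?_⟩
  · obtain ⟨g, hg⟩ := hconj _ _ (back X hX).1 (back Y hY).1
    refine ⟨e g, ?_⟩
    rw [← (back X hX).2, ← (back Y hY).2, ← hg, Subgroup.map_map, Subgroup.map_map]
    congr 1
    ext y
    simp
  · have h := (hall _ (back X hX).1).map e
    rwa [he, (back X hX).2] at h

end CfsgLib.Fi23Cent
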