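import Mathlib

/-!
Counting the conjugates of an element under a subgroup.
-/

set_option autoImplicit false
set_option linter.style.haveILetI false

namespace CfsgLib.Fi23Cent

theorem card_conjugates_mul {G : Type*} [Group G] (M : Subgroup G) (y : G) :
    Nat.card {z : G | ∃ g ∈ M, g * y * g⁻¹ = z} * Nat.card ↥(M ⊓ Subgroup.centralizer ({y} : Set G)) =
      Nat.card M := by
  set S := (M ⊓ Subgroup.centralizer ({y} : Set G)).subgroupOf M
  have key : ∀ a b : M, (a : G) * y * (a : G)⁻¹ = b * y * (b : G)⁻¹ ↔ a⁻¹ * b ∈ S := by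
    intro a b
    rw [Subgroup.mem_subgroupOf, Subgroup.mem_inf, Subgroup.mem_centralizer_singleton_iff]
    simp only [Subgroup.coe_mul, Subgroup.coe_inv]
    constructor
    · intro h
      refine ⟨M.mul_mem (M.inv_mem a.2) b.2, ?_⟩
      calc (a : G)⁻¹ * b * y = (a : G)⁻¹ * ((b : G) * y * (b : G)⁻¹) * b := by group
        _ = y * ((a : G)⁻¹ * b) := by rw [← h]; group
    · rintro ⟨-, h⟩
      symm
      calc (b : G) * y * (b : G)⁻¹ = a * ((a : G)⁻¹ * b * y) * (b : G)⁻¹ := by group
        _ = a * y * (a : G)⁻¹ := by rw [h]; group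
  let f : M ⧸ S → {z : G | ∃ g ∈ M, g * y * g⁻¹ = z} := Quotient.lift
    (fun a : M => (⟨(a : G) * y * (a : G)⁻¹, a, a.2, rfl⟩ : {z : G | ∃ g ∈ M, g * y * g⁻¹ = z}))
    fun a b h => Subtype.ext ((key a b).mpr (QuotientGroup.leftRel_apply.mp h))
  have hb : Function.Bijective f := by
    refine ⟨fun a b => ?_, fun z => ?_⟩
    · induction a using QuotientGroup.induction_on with
      | H a =>
        induction b using QuotientGroup.induction_on with
        | H b => exact fun h => QuotientGroup.eq.mpr ((key a b).mp (congrArg Subtype.val h))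
    · obtain ⟨z, g, hg, rfl⟩ := z
      exact ⟨QuotientGroup.mk ⟨g, hg⟩, rfl⟩
  rw [← Nat.card_congr (Equiv.ofBijective f hb),
    ← Nat.card_congr (Subgroup.subgroupOfEquivOfLe (inf_le_left : M ⊓ Subgroup.centralizer ({y} : Set G) ≤ M)).toEquiv]
  exact Subgroup.index_mul_card S

end CfsgLib.Fi23Cent
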