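import Mathlib

/-!
The order of the normalizer of a subgroup of prime order from the order of its centralizer.
-/

set_option autoImplicit false
set_option linter.style.haveILetI false

namespace CfsgLib.Fi23Cent

variable {G : Type*} [Group G] [Finite G] {p : ℕ} [Fact p.Prime]

/-- In a group whose order `p` divides once, the number of conjugates of a subgroup of order `p` is
one modulo `p`. -/
theorem index_normalizer_mod (hG : (Nat.card G).factorization p = 1) {X : Subgroup G} (hX : Nat.card X = p) :
    (Subgroup.normalizer (X : Set G)).index ≡ 1 [MOD p] := by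
  let P : Sylow p G := Sylow.ofCard X (by rw [hX, hG, pow_one])
  have h := card_sylow_modEq_one p G
  rwa [P.card_eq_index_normalizer] at h

/-- The part of a normalizer stabilizing something acts on `X` with kernel its centralizing part. -/
theorem card_inf_normalizer {X : Subgroup G} (hX : Nat.card X = p) (S : Subgroup G) :
    ∃ k, 0 < k ∧ k ≤ p - 1 ∧ Nat.card ↥(Subgroup.normalizer (X : Set G) ⊓ S) =
      Nat.card ↥(Subgroup.centralizer (X : Set G) ⊓ S) * k := by
  have hp : p.Prime := Fact.out
  haveI : IsCyclic X := isCyclic_of_prime_card hX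
  set M := Subgroup.normalizer (X : Set G) ⊓ S
  set f := X.normalizerMonoidHom.comp (Subgroup.inclusion (inf_le_left : M ≤ Subgroup.normalizer (X : Set G)))
  have hker : f.ker = (Subgroup.centralizer (X : Set G) ⊓ S).subgroupOf M := by
    ext m
    rw [MonoidHom.mem_ker, MonoidHom.comp_apply, ← MonoidHom.mem_ker, Subgroup.normalizerMonoidHom_ker,
      Subgroup.mem_subgroupOf, Subgroup.mem_subgroupOf]
    exact ⟨fun h => ⟨h, m.2.2⟩, fun h => h.1⟩
  have hle : Subgroup.centralizer (X : Set G) ⊓ S ≤ M :=
    inf_le_inf_right S (Subgroup.centralizer_le_normalizer _)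
  refine ⟨Nat.card f.range, Nat.card_pos, ?_, ?_⟩
  · refine (Subgroup.card_le_card_group _).trans (le_of_eq ?_)
    rw [IsCyclic.card_mulAut, hX, Nat.totient_prime hp]
  · rw [← f.ker.card_mul_index, Subgroup.index_ker, hker,
      Nat.card_congr (Subgroup.subgroupOfEquivOfLe hle).toEquiv]

/-- The order of a normalizer is the order of the centralizer times a residue. -/
theorem card_normalizer (hG : (Nat.card G).factorization p = 1) {X : Subgroup G} (hX : Nat.card X = p)
    {c m : ℕ} (hc : Nat.card (Subgroup.centralizer (X : Set G)) = c) (hm : Nat.card G = c * m) :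
    Nat.card (Subgroup.normalizer (X : Set G)) = c * (m % p) := by
  have hp : p.Prime := Fact.out
  obtain ⟨k, hk0, hk, e⟩ := card_inf_normalizer hX (⊤ : Subgroup G)
  rw [inf_top_eq, inf_top_eq, hc] at e
  have hc0 : 0 < c := hc ▸ Nat.card_pos
  have hm' : k * (Subgroup.normalizer (X : Set G)).index = m := by
    apply Nat.eq_of_mul_eq_mul_left hc0
    rw [← mul_assoc, ← e, Subgroup.card_mul_index, hm]
  have : m ≡ k [MOD p] := by
    rw [← hm']
    simpa using (index_normalizer_mod hG hX).mul_left k
  have := hp.one_lt
  rw [e, show m % p = k from (show m % p = k % p from by assumption).trans (Nat.mod_eq_of_lt (by omega))]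

end CfsgLib.Fi23Cent
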