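import Cfsg.Agent.Lib.Fi23Cent.Env
import Cfsg.Agent.Lib.Fi23Cent.Split
import Cfsg.Agent.Lib.Fi23Cent.Count
import Cfsg.Agent.Lib.TransCent.Normalizer

/-!
Split normalizers in the presented group Fi23 from certificates.
-/

set_option autoImplicit false
set_option linter.style.haveILetI false

namespace CfsgLib.Fi23Cent

open CfsgLib.CosetEnum CfsgLib.Fi23Pres CfsgLib Cfsg.Spor
open scoped Pointwise

theorem conj_class (g : Fi23) : MulAut.conj g '' transClass = transClass := by
  ext d
  constructor
  · rintro ⟨y, hy, rfl⟩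
    exact (show IsConj central y from hy).trans (isConj_iff.mpr ⟨g, rfl⟩)
  · intro hd
    refine ⟨g⁻¹ * d * g, (show IsConj central d from hd).trans (isConj_iff.mpr ⟨g⁻¹, by simp⟩), ?_⟩
    simp [mul_assoc]

theorem powWord_lt {w : List ℕ} (hw : ∀ g ∈ w, g < certA.K) (n : ℕ) : ∀ g ∈ powWord w n, g < certA.K := by
  intro g hg
  obtain ⟨l, hl, hgl⟩ := List.mem_flatten.mp hg
  obtain rfl := List.eq_of_mem_replicate hl
  exact hw g hgl

theorem order_of_checks {v : List ℕ} {p : ℕ} [Fact p.Prime]
    (hlt : (v.all fun g => Nat.blt g 10) = true)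
    (hpow : (levels.all fun l => wordFix certA (powWord v p) l.base) = true)
    (hne : sameBases certA levels v [] = false) : orderOf (prodW gen v) = p :=
  orderOf_eq_prime (setupA.pow_eq_one_of_bases chain_ok hsize hlt hpow)
    (by simpa using ne_words (lt_of_blt hlt) nil_lt hne)

theorem conj_of_checks {v u : List ℕ} {r : ℕ} (hv : ∀ g ∈ v, g < certA.K) (hu : ∀ g ∈ u, g < certA.K)
    (h : sameBases certA levels (u ++ v) (powWord v r ++ u) = true) :
    prodW gen u * prodW gen v * (prodW gen u)⁻¹ = prodW gen v ^ r := by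
  have e := eq_words (app_lt hu hv) (app_lt (powWord_lt hv r) hu) h
  rw [prodW_append, prodW_append, prodW_powWord] at e
  rw [e, mul_inv_cancel_right]

theorem sylow_conj {p : ℕ} [Fact p.Prime] (hG : (Nat.card Fi23).factorization p = 1)
    (X Y : Subgroup Fi23) (hX : Nat.card X = p) (hY : Nat.card Y = p) :
    ∃ g : Fi23, X.map (MulAut.conj g).toMonoidHom = Y := by
  obtain ⟨g, hg⟩ := MulAction.exists_smul_eq Fi23
    (Sylow.ofCard X (by rw [hX, hG, pow_one])) (Sylow.ofCard Y (by rw [hY, hG, pow_one]))
  exact ⟨g, congrArg (fun P : Sylow p Fi23 => (P : Subgroup Fi23)) hg⟩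

theorem factorization_one {p m : ℕ} (hp : p.Prime) (hm : ¬ p ∣ m) (h : Nat.card Fi23 = p * m) :
    (Nat.card Fi23).factorization p = 1 := by
  have hm0 : m ≠ 0 := fun e => hm (e.symm ▸ dvd_zero p)
  rw [h, Nat.factorization_mul hp.ne_zero hm0]
  simp [Nat.factorization_eq_zero_of_not_dvd hm, hp.factorization_self]

theorem card_sup_comm {G : Type*} [Group G] (A B : Subgroup G) (hd : A ⊓ B = ⊥)
    (hc : ∀ x ∈ A, ∀ y ∈ B, x * y = y * x) : Nat.card ↥(A ⊔ B) = Nat.card A * Nat.card B := by
  have hA : A ≤ Subgroup.normalizer (B : Set G) := by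
    refine le_trans (fun x hx => ?_) (Subgroup.centralizer_le_normalizer _)
    exact Subgroup.mem_centralizer_iff.mpr fun y hy => (hc x hx y hy).symm
  let f : ↥A × ↥B → ↥(A ⊔ B) := fun q =>
    ⟨q.1 * q.2, mul_mem (Subgroup.mem_sup_left q.1.2) (Subgroup.mem_sup_right q.2.2)⟩
  have hb : Function.Bijective f := by
    constructor
    · rintro ⟨a, b⟩ ⟨a', b'⟩ h
      have h' : (a : G) * b = a' * b' := congrArg Subtype.val h
      have hm : (a' : G)⁻¹ * a ∈ A ⊓ B := by
        refine ⟨A.mul_mem (A.inv_mem a'.2) a.2, ?_⟩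
        rw [show (a' : G)⁻¹ * a = b' * (b : G)⁻¹ by
          rw [eq_mul_inv_iff_mul_eq, mul_assoc, h', inv_mul_cancel_left]]
        exact B.mul_mem b'.2 (B.inv_mem b.2)
      rw [hd, Subgroup.mem_bot, inv_mul_eq_one] at hm
      obtain rfl : a' = a := Subtype.ext hm
      obtain rfl : b = b' := Subtype.ext (mul_left_cancel h')
      rfl
    · intro x
      have hx : (x : G) ∈ (A : Set G) * (B : Set G) := by
        rw [← Subgroup.coe_mul_of_left_le_normalizer_right _ _ hA]; exact x.2
      obtain ⟨a, ha, b, hb, e⟩ := Set.mem_mul.mp hx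
      exact ⟨(⟨a, ha⟩, ⟨b, hb⟩), Subtype.ext e⟩
  rw [← Nat.card_congr (Equiv.ofBijective f hb), Nat.card_prod]

/-- Everything about the normalizer of a subgroup of order `p` from the certificates. -/
theorem split_of_checks {p n scanN b : ℕ} [Fact p.Prime] {v u chain targets : List ℕ}
    {st st₂ : List (ℕ × ℕ)} {tab : List (List (List ℕ))} {k r : ℕ}
    (hv : (v.all fun g => Nat.blt g 10) = true)
    (hpow : (levels.all fun l => wordFix certA (powWord v p) l.base) = true)
    (hne : sameBases certA levels v [] = false)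
    (hchain : (chain.all fun x => Nat.blt x certA.N) = true)
    (hidx : TransCent.idxOK st chain.length = true)
    (hrel : TransCent.chainRelOK certA commMask n chain = true)
    (hcov : TransCent.pairsCover n st = true)
    (hnd : (TransCent.grow certA zWord st chain).Nodup) (hn : 2 ≤ n)
    (hsub : ∀ x ∈ chain, x ∈ TransCent.grow certA zWord st chain)
    (hfix : ∀ x < certA.N, TransCent.fixedAt certA v (TransCent.grow certA zWord st chain) x = true)
    (hstep : ((List.range chain.length).all fun i =>
      TransCent.stepOK certA commMask zWord (TransCent.grow certA zWord st chain) chain i (tab.getD i [])) = true)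
    (hb : Nat.blt b certA.N = true)
    (hscan : ∀ x < certA.N, TransCent.scanOK certA commMask v p scanN b
      ((TransCent.grow certA zWord st chain).map fun x => (x, x)) [b] x = true)
    (htar : targets = [11589, 8006, 8005, 8003, 8002, 8001, 8000, 8004, 8007, 7999])
    (hgrow : TransCent.growOK certA zWord targets
      (TransCent.grow certA zWord st chain ++ certA.shifts v p b) st₂ = true)
    (hu : (u.all fun g => Nat.blt g 10) = true)
    (hconj : sameBases certA levels (u ++ v) (powWord v r ++ u) = true)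
    (huk : sameBases certA levels (powWord u k) [] = true)
    (hufix : ((TransCent.grow certA zWord st chain).all fun x =>
      Nat.beq (certA.run x (certA.revInv u)) x) = true)
    (hk : 0 < k) (hr : ∀ i < k, 0 < i → r ^ i % p ≠ 1)
    (hall : (∀ s < p, 0 < s → ∃ i < k, r ^ i % p = s) ∨
      ((Nat.card Fi23).factorization p = 1 ∧
        4089470473293004800 % (p * (n + 1).factorial) = 0 ∧
        4089470473293004800 / (p * (n + 1).factorial) % p = k)) :
    Nat.card (Subgroup.zpowers (prodW gen v)) = p ∧
      SplitNorm transClass (Subgroup.zpowers (prodW gen v)) (p * k) (n + 1) := by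
  have hv' := lt_of_blt hv
  have hu' := lt_of_blt hu
  set V := prodW gen v
  set U := prodW gen u
  set X := Subgroup.zpowers V
  set F₀ := TransCent.grow certA zWord st chain
  have hord : orderOf V = p := order_of_checks hv hpow hne
  simp only [List.all_eq_true, Nat.blt_eq] at hchain hb
  have hp : p.Prime := Fact.out
  obtain ⟨φ, hinj, hrange, hcen⟩ := env.exists_sym central_facts.1 three_conj hrel
    (by
      have hlen : chain.length = n := by
        simp only [TransCent.chainRelOK, Bool.and_eq_true] at hrel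
        exact Nat.eq_of_beq_eq_true hrel.1.1
      rw [← hlen]; exact hidx) hcov hnd hn
  have hclass : classCent transClass X = φ.range := by
    rw [classCent, env.class_inter hv' hfix class_iff, hrange]
  have hC : Subgroup.centralizer (X : Set Fi23) = X ⊔ φ.range :=
    env.centralizer_sym hv' hp.pos (hord ▸ pow_orderOf_eq_one V) hb hchain hidx hsub hfix hstep hscan
      (htar ▸ hgrow) letter_targets hrange
  have hKV : ∀ y ∈ φ.range, Commute V y := fun y hy => by
    have : y ∈ Subgroup.centralizer (X : Set Fi23) := hC ▸ Subgroup.mem_sup_right hy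
    exact Subgroup.mem_centralizer_iff.mp this V (Subgroup.mem_zpowers V)
  have hcard : Nat.card X = p := by rw [Nat.card_zpowers, hord]
  have hXK : X ⊓ φ.range = ⊥ := by
    refine le_bot_iff.mp fun y ⟨hy1, hy2⟩ => ?_
    obtain ⟨j, rfl⟩ := Subgroup.mem_zpowers_iff.mp hy1
    exact Subgroup.mem_bot.mpr (hcen _ (fun z hz => (hKV z hz).zpow_left j) hy2)
  have hUF : ∀ y ∈ φ.range, U * y = y * U := by
    intro y hy
    rw [hrange] at hy
    induction hy using Subgroup.closure_induction with
    | mem d hd =>
      obtain ⟨x, hx, rfl⟩ := hd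
      refine ((env.fix_iff U x).mp (Fin.ext ?_)).eq
      rw [setupA.rho_prodW hu']
      simp only [List.all_eq_true] at hufix
      exact Nat.eq_of_beq_eq_true (hufix _ hx)
    | one => simp
    | mul a b _ _ ha hb => exact (Commute.mul_right ha hb).eq
    | inv a _ ha => exact (Commute.inv_right ha).eq
  have hUk : U ^ k ∈ X := by
    rw [← prodW_powWord, eq_words (powWord_lt hu' k) nil_lt huk, prodW_nil]
    exact X.one_mem
  obtain ⟨F, f1, f2, f3, f4, f5, f6, f7⟩ := TransCent.exists_frobenius_part hord hk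
    (conj_of_checks hv' hu' hconj) hUk (fun i h1 h2 => hr i h2 h1) hUF hC hXK
  refine ⟨hcard, F, f1, f2, f3, hclass ▸ f4, hclass ▸ f5, ?_,
    ⟨(MulEquiv.subgroupCongr hclass).trans (MonoidHom.ofInjective hinj).symm⟩⟩
  rw [hclass]
  rcases hall with hall | ⟨hp1, hdvd, hmod⟩
  swap
  · have hKc : Nat.card φ.range = (n + 1).factorial := by
      rw [← Nat.card_congr (MonoidHom.ofInjective hinj).toEquiv, Nat.card_perm, Nat.card_fin]
    have hCc : Nat.card (Subgroup.centralizer (X : Set Fi23)) = p * (n + 1).factorial := by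
      rw [hC, card_sup_comm _ _ hXK (fun x hx y hy => ?_), hcard, hKc]
      obtain ⟨j, rfl⟩ := Subgroup.mem_zpowers_iff.mp hx
      exact ((hKV y hy).zpow_left j).eq
    refine Subgroup.eq_of_le_of_card_ge f6 (le_of_eq ?_)
    rw [card_normalizer hp1 hcard hCc (m := 4089470473293004800 / (p * (n + 1).factorial)),
      hmod, card_sup_comm F φ.range f4 f5, f1, hKc]
    · ring
    · rw [card_faithful.1, Nat.mul_div_cancel' (Nat.dvd_of_mod_eq_zero hdvd)]
  refine le_antisymm f6 fun g hg => f7 g ?_
  have hgV : g * V * g⁻¹ ∈ X :=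
    (Subgroup.mem_normalizer_iff.mp hg V).mp (Subgroup.mem_zpowers V)
  obtain ⟨s, hs⟩ := mem_powers_iff_mem_zpowers.mpr hgV
  change V ^ s = g * V * g⁻¹ at hs
  rw [pow_eq_pow_mod s (hord ▸ pow_orderOf_eq_one V)] at hs
  rcases Nat.eq_zero_or_pos (s % p) with h0 | h0
  · rw [h0, pow_zero] at hs
    exfalso
    have : V = 1 := by simpa using hs.symm
    rw [this, orderOf_one] at hord
    exact hp.one_lt.ne hord
  · obtain ⟨i, -, hi⟩ := hall _ (Nat.mod_lt s hp.pos) h0
    refine ⟨i, hs.symm.trans ?_⟩
    rw [← hi, ← pow_eq_pow_mod _ (hord ▸ pow_orderOf_eq_one V)]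

end CfsgLib.Fi23Cent
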