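import Cfsg.Agent.Lib.TransCent.Cent
import Cfsg.Agent.Lib.Fi23Pres.TransClass

/-!
The presented group Fi23 and its transpositions as an environment for centralizer certificates.
-/

set_option autoImplicit false

namespace CfsgLib.Fi23Cent

open CfsgLib.CosetEnum CfsgLib.Fi23Pres Cfsg.Spor

theorem env : TransCent.Env certA subA gen rho central commMask zWord where
  setup := setupA
  rep := repWords
  graph := graph
  zw_lt := z_lt
  zw_eq := rfl
  inj := card_faithful.2

theorem class_iff (d : Fi23) :
    d ∈ transClass ↔ ∃ x : Fin certA.N, conjAt certA gen central x = d := mem_transClass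

theorem letter_targets : ∀ k < certA.K, ∃ x : Fin certA.N,
    (x : ℕ) ∈ [11589, 8006, 8005, 8003, 8002, 8001, 8000, 8004, 8007, 7999] ∧
      conjAt certA gen central x = gen k := by
  intro k hk
  rw [hK] at hk
  obtain ⟨h1, h2⟩ := std_spec (k + 1) (by omega)
  refine ⟨⟨_, h1⟩, ?_, h2.trans ?_⟩
  · have hmem : ∀ k < 10, stdTuple.getD (k + 1) 0 ∈
        [11589, 8006, 8005, 8003, 8002, 8001, 8000, 8004, 8007, 7999] := by decide
    exact hmem k hk
  · have e : famWord (k + 1) = [k] := by
      unfold famWord
      rw [show Nat.beq (k + 1) 0 = false from rfl, pick_false]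
      simp
    simp [family, e]

theorem three_conj (x y : Fin certA.N)
    (h : ¬ Commute (conjAt certA gen central x) (conjAt certA gen central y)) :
    (conjAt certA gen central x * conjAt certA gen central y) ^ 3 = 1 := by
  have hx := (class_iff _).mpr ⟨x, rfl⟩
  have hy := (class_iff _).mpr ⟨y, rfl⟩
  refine (transClass_three.1.2 _ hx _ hy).resolve_left fun h2 => h ?_
  have sq : ∀ z : Fin certA.N, conjAt certA gen central z * conjAt certA gen central z = 1 := fun z => by
    have h0 := transClass_three.1.1 _ ((class_iff _).mpr ⟨z, rfl⟩)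
    rw [← pow_two, ← h0]
    exact pow_orderOf_eq_one _
  rw [pow_two] at h2
  set d := conjAt certA gen central x
  set e := conjAt certA gen central y
  calc d * e = d * (d * e * (d * e)) * e := by rw [h2, mul_one]
    _ = d * d * (e * d) * (e * e) := by simp only [mul_assoc]
    _ = e * d := by rw [sq x, sq y, one_mul, mul_one]

end CfsgLib.Fi23Cent
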