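import Cfsg.Agent.Lib.M23.TypeM23
import Cfsg.Agent.Lib.TypeM22.Main

/-!
Groups of type M(23) are the presented group Fi23 with its transpositions.
-/

set_option autoImplicit false

namespace CfsgLib.Fi23Cent

open Cfsg.Spor

universe u

theorem fi23_of_type {G : Type u} [Group G] [Finite G] {D : Set G}
    (hD : Cfsg.IsThreeTranspositionGroup D) (hprim : Cfsg.IsPrimitiveUnderConj D)
    (ht : Cfsg.IsOfTypeM23 G D) :
    ∃ Φ : Fi23 ≃* G, Φ '' CfsgLib.Fi23Pres.transClass = D := by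
  refine CfsgLib.M23.type_m23_fi23_of (fun {X} _ _ {E} h1 h2 h3 => ?_) hD hprim ht
  obtain ⟨e, he⟩ := CfsgLib.TypeM22.recognition h1 h2 h3
  refine ⟨e.symm, ?_⟩
  rw [← he, Set.image_image]
  simp only [MulEquiv.symm_apply_apply, Set.image_id']
  rfl

end CfsgLib.Fi23Cent
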